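import Mathlib.AlgebraicGeometry.Fiber
import Mathlib.AlgebraicGeometry.Properties
import Mathlib.AlgebraicGeometry.Morphisms.FiniteType
import Mathlib.RingTheory.ZariskisMainTheorem
import Mathlib.RingTheory.Ideal.KrullsHeightTheorem
import Mathlib.RingTheory.DedekindDomain.Basic
import Mathlib.RingTheory.Spectrum.Prime.Jacobson

/-! Closed points of the generic fibre specializing to a given closed point. -/

set_option autoImplicit false

noncomputable section

universe u

open CategoryTheory AlgebraicGeometry TopologicalSpace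

namespace Groth.Agent.GenFibrePoint

/-- Over a one-dimensional base: a maximal ideal all of whose nonzero generizations contain `t` is the only
nonzero one. -/
theorem eq_of_forall_mem {C : Type u} [CommRing C] [IsDomain C] [IsNoetherianRing C] {t : C} (ht : t ≠ 0)
    {q : Ideal C} [q.IsPrime] (htq : t ∈ q) (h : ∀ Q : Ideal C, Q.IsPrime → Q ≤ q → Q ≠ ⊥ → t ∈ Q)
    {Q : Ideal C} [Q.IsPrime] (hQ : Q ≤ q) (hQ0 : Q ≠ ⊥) : Q = q := by
  classical
  have hspan : Ideal.span {t} ≤ q := by rwa [Ideal.span_le, Set.singleton_subset_iff]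
  obtain ⟨m₀, hm₀, hm₀q⟩ := Ideal.exists_minimalPrimes_le hspan
  by_cases hq : q ∈ (Ideal.span {t}).minimalPrimes
  · refine le_antisymm hQ (hq.2 ⟨inferInstance, ?_⟩ hQ)
    rw [Ideal.span_le, Set.singleton_subset_iff]
    exact h Q inferInstance hQ hQ0
  exfalso
  let S : Finset (Ideal C) := ((Ideal.span {t}).finite_minimalPrimes_of_isNoetherianRing C).toFinset.filter (· ≤ q)
  have hnot : ¬ (q : Set C) ⊆ ⋃ m ∈ (S : Set (Ideal C)), (m : Set C) := by
    intro hsub
    obtain ⟨m, hm, hqm⟩ := (Ideal.subset_union_prime (f := fun m : Ideal C => m) ⊥ ⊥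
      (fun m hm _ _ => by simp [S] at hm; exact hm.1.1.1)).1 hsub
    simp only [S, Finset.mem_filter, Set.Finite.mem_toFinset] at hm
    exact hq (le_antisymm hqm hm.2 ▸ hm.1)
  obtain ⟨s, hsq, hs⟩ := Set.not_subset.1 hnot
  have hmem : ∀ m ∈ (Ideal.span {t}).minimalPrimes, m ≤ q → s ∉ m := fun m hm hmq hsm =>
    hs (Set.mem_biUnion (show m ∈ (S : Set (Ideal C)) from
      Finset.mem_coe.2 (Finset.mem_filter.2 ⟨(Set.Finite.mem_toFinset _).2 hm, hmq⟩)) hsm)
  have hs0 : s ≠ 0 := fun h0 => hmem m₀ hm₀ hm₀q (h0 ▸ m₀.zero_mem)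
  obtain ⟨M, hM, hMq⟩ := Ideal.exists_minimalPrimes_le (show Ideal.span {s} ≤ q by
    rw [Ideal.span_le, Set.singleton_subset_iff]; exact hsq)
  haveI := hM.1.1
  have hsM : s ∈ M := hM.1.2 (Ideal.mem_span_singleton_self s)
  have hM0 : M ≠ ⊥ := fun h0 => hs0 (by rwa [h0, Ideal.mem_bot] at hsM)
  obtain ⟨m, hm, hmM⟩ := Ideal.exists_minimalPrimes_le (show Ideal.span {t} ≤ M by
    rw [Ideal.span_le, Set.singleton_subset_iff]; exact h M inferInstance hMq hM0)
  haveI := hm.1.1
  have hlt : m < M := lt_of_le_of_ne hmM fun e => hmem m hm (hmM.trans hMq) (e ▸ hsM)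
  have hbot : (⊥ : Ideal C) < m := bot_lt_iff_ne_bot.2 fun h0 => ht (by
    have := hm.1.2 (Ideal.mem_span_singleton_self t)
    rwa [h0, Ideal.mem_bot] at this)
  have h1 := Ideal.height_le_card_of_mem_minimalPrimes_span (Set.finite_singleton s) hM
  rw [Set.ncard_singleton] at h1
  haveI : (⊥ : Ideal C).IsPrime := Ideal.isPrime_bot
  have h2 := (add_le_add (Ideal.height_add_one_le_of_lt_of_isPrime hbot) (le_refl (1 : ℕ∞))).trans
    (Ideal.height_add_one_le_of_lt_of_isPrime hlt)
  have h3 : (1 + 1 : ℕ∞) ≤ 1 := by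
    refine le_trans ?_ (h2.trans h1)
    exact add_le_add le_add_self le_rfl
  exact absurd h3 (by decide)

/-- The key algebra fact. -/
theorem exists_prime {R B : Type u} [CommRing R] [IsDedekindDomain R] [CommRing B] [Algebra R B]
    [Algebra.FiniteType R B] (q : Ideal B) [q.IsMaximal] (hq : q.comap (algebraMap R B) ≠ ⊥)
    (P₀ : Ideal B) [P₀.IsPrime] (hP₀ : P₀ ≤ q) (hP₀c : P₀.comap (algebraMap R B) = ⊥) :
    ∃ P : Ideal B, P.IsPrime ∧ P ≤ q ∧ P.comap (algebraMap R B) = ⊥ ∧
      ∀ Q : Ideal B, Q.IsPrime → P ≤ Q → Q.comap (algebraMap R B) = ⊥ → Q = P := by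
  haveI : IsNoetherianRing B := Algebra.FiniteType.isNoetherianRing R B
  obtain ⟨P, ⟨hPp, hPq, hPc⟩, hmax⟩ := wellFounded_gt.has_min
    {P : Ideal B | P.IsPrime ∧ P ≤ q ∧ P.comap (algebraMap R B) = ⊥} ⟨P₀, inferInstance, hP₀, hP₀c⟩
  refine ⟨P, hPp, hPq, hPc, ?_⟩
  let C := B ⧸ P
  let π := Ideal.Quotient.mk P
  have hπ : Function.Surjective π := Ideal.Quotient.mk_surjective
  let qC : Ideal C := q.map π
  have hqC : qC.comap π = q := by
    rw [Ideal.comap_map_of_surjective π hπ, ← RingHom.ker_eq_comap_bot, Ideal.mk_ker, sup_eq_left.2 hPq]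
  haveI hqCmax : qC.IsMaximal := (Ideal.map_eq_top_or_isMaximal_of_surjective π hπ ‹_›).resolve_left fun h => by
    rw [show qC = ⊤ from h, Ideal.comap_top] at hqC
    exact Ideal.IsPrime.ne_top' hqC.symm
  have hinj : Function.Injective (algebraMap R C) := by
    rw [injective_iff_map_eq_zero]
    intro r hr
    have : r ∈ P.comap (algebraMap R B) := by
      show algebraMap R B r ∈ P
      exact Ideal.Quotient.eq_zero_iff_mem.1 hr
    rwa [hPc, Ideal.mem_bot] at this
  have hqCc : qC.comap (algebraMap R C) = q.comap (algebraMap R B) := by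
    conv_rhs => rw [← hqC]
    rfl
  obtain ⟨t, htmem, ht0⟩ := Submodule.exists_mem_ne_zero_of_ne_bot hq
  haveI hpmax : (q.comap (algebraMap R B)).IsMaximal := (Ideal.IsPrime.comap _).isMaximal hq
  -- nonzero generizations of `qC` lie over the same prime
  have hover : ∀ Q : Ideal C, Q.IsPrime → Q ≤ qC → Q ≠ ⊥ → Q.comap (algebraMap R C) = q.comap (algebraMap R B) := by
    intro Q hQp hQle hQ0
    have hne : Q.comap (algebraMap R C) ≠ ⊥ := by
      intro h0
      have hle : P ≤ Q.comap π := fun b hb => by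
        show π b ∈ Q
        rw [Ideal.Quotient.eq_zero_iff_mem.2 hb]; exact Q.zero_mem
      have hlt : P < Q.comap π := lt_of_le_of_ne hle fun e => hQ0 (by
        rw [← Ideal.map_comap_of_surjective π hπ Q, ← e, Ideal.map_quotient_self])
      exact hmax (Q.comap π) ⟨Ideal.IsPrime.comap π, (Ideal.comap_mono hQle).trans hqC.le, h0⟩ hlt
    haveI := hQp
    haveI : (Q.comap (algebraMap R C)).IsMaximal := (Ideal.IsPrime.comap _).isMaximal hne
    exact Ideal.IsMaximal.eq_of_le inferInstance hpmax.ne_top ((Ideal.comap_mono hQle).trans hqCc.le)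
  have ht : algebraMap R C t ≠ 0 := fun h => ht0 (hinj (h.trans (map_zero _).symm))
  haveI : qC.IsPrime := hqCmax.isPrime
  have honly : ∀ Q : Ideal C, Q.IsPrime → Q ≤ qC → Q ≠ ⊥ → Q = qC := fun Q hQp hQle hQ0 => by
    haveI := hQp
    exact eq_of_forall_mem ht (show t ∈ qC.comap (algebraMap R C) by rw [hqCc]; exact htmem)
      (fun Q' hQ'p hQ'le hQ'0 => show t ∈ Q'.comap (algebraMap R C) by rw [hover Q' hQ'p hQ'le hQ'0]; exact htmem)
      hQle hQ0
  -- `qC` is isolated in its fibre
  let x : PrimeSpectrum C := ⟨qC, inferInstance⟩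
  let p := x.comap (algebraMap R C)
  let e := PrimeSpectrum.preimageHomeomorphFiber R C p
  haveI : IsNoetherianRing (p.asIdeal.Fiber C) := Algebra.FiniteType.isNoetherianRing p.asIdeal.ResidueField _
  haveI : IsJacobsonRing (p.asIdeal.Fiber C) := isJacobsonRing_of_finiteType (A := p.asIdeal.ResidueField)
  haveI : Algebra.QuasiFiniteAt R x.asIdeal := by
    refine .of_isOpen_singleton_fiber x ?_
    rw [← e.isOpen_image, Set.image_singleton]
    refine ((PrimeSpectrum.isOpen_singleton_tfae_of_isNoetherian_of_isJacobsonRing (e ⟨x, rfl⟩)).out 0 2 rfl rfl).2 ⟨?_, ?_⟩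
    · rw [← Set.image_singleton, e.isClosed_image]
      have hcl : IsClosed ({x} : Set (PrimeSpectrum C)) := (PrimeSpectrum.isClosed_singleton_iff_isMaximal x).2 hqCmax
      convert hcl.preimage continuous_subtype_val using 1
      ext y
      simp [Subtype.ext_iff]
    · intro a b hab hb
      rw [Set.mem_singleton_iff] at hb ⊢
      subst hb
      obtain ⟨z, rfl⟩ : ∃ z, e z = b := e.surjective b
      have h1 := hab.map e.symm.continuous
      rw [e.symm_apply_apply, e.symm_apply_apply, subtype_specializes_iff] at h1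
      have h2 : z.1.asIdeal ≤ qC := (PrimeSpectrum.le_iff_specializes _ _).2 h1
      have h3 : z.1.asIdeal ≠ ⊥ := fun h0 => ht (by
        have : t ∈ (PrimeSpectrum.comap (algebraMap R C) z.1).asIdeal := by
          rw [show PrimeSpectrum.comap (algebraMap R C) z.1 = p from z.2]
          show t ∈ qC.comap (algebraMap R C)
          rw [hqCc]; exact htmem
        have : algebraMap R C t ∈ z.1.asIdeal := this
        rwa [h0, Ideal.mem_bot] at this)
      congr 1
      exact Subtype.ext (PrimeSpectrum.ext (honly _ z.1.2 h2 h3))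
  haveI : (⊥ : Ideal C).IsPrime := Ideal.isPrime_bot
  haveI hbotqf : Algebra.QuasiFiniteAt R (⊥ : Ideal C) := Algebra.QuasiFiniteAt.of_le (Q := x.asIdeal) bot_le
  -- hence `Frac C` is finite over `Frac R`
  let L := Localization.AtPrime (⊥ : Ideal C)
  haveI : IsFractionRing C L := by
    show IsLocalization (nonZeroDivisors C) L
    convert (Localization.isLocalization : IsLocalization (⊥ : Ideal C).primeCompl L) using 1
    ext y
    simp [Ideal.primeCompl]
  letI : Field L := IsFractionRing.toField C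
  have hRL : Function.Injective (algebraMap R L) := by
    rw [IsScalarTower.algebraMap_eq R C L]
    exact (IsFractionRing.injective C L).comp hinj
  haveI : FaithfulSMul R L := (faithfulSMul_iff_algebraMap_injective R L).2 hRL
  let K := FractionRing R
  letI : Algebra K L := FractionRing.liftAlgebra R L
  haveI : Algebra.QuasiFinite R L := hbotqf
  haveI : Algebra.QuasiFinite K L := Algebra.QuasiFinite.of_restrictScalars R K L
  haveI : Module.Finite K L := Module.Finite.of_quasiFinite
  haveI : Algebra.IsAlgebraic R L := (IsFractionRing.comap_isAlgebraic_iff (A := R) (K := K) (C := L)).2 inferInstance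
  intro Q hQp hPQ hQc
  refine le_antisymm (fun b hb => ?_) hPQ
  by_contra hbP
  have hb0 : π b ≠ 0 := fun h => hbP (Ideal.Quotient.eq_zero_iff_mem.1 h)
  have halg : IsAlgebraic R (π b) :=
    (isAlgebraic_algebraMap_iff (IsFractionRing.injective C L)).1 (Algebra.IsAlgebraic.isAlgebraic _)
  obtain ⟨r, hr0, hdvd⟩ := halg.exists_nonzero_dvd (mem_nonZeroDivisors_of_ne_zero hb0)
  obtain ⟨c, hc⟩ := hdvd
  obtain ⟨c', rfl⟩ := hπ c
  have h4 : algebraMap R B r - b * c' ∈ P := by
    rw [← Ideal.Quotient.eq_zero_iff_mem, map_sub, map_mul]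
    exact sub_eq_zero.2 hc
  have h5 : r ∈ Q.comap (algebraMap R B) := by
    show algebraMap R B r ∈ Q
    have := Q.add_mem (hPQ h4) (Q.mul_mem_right c' hb)
    rwa [sub_add_cancel] at this
  rw [hQc, Ideal.mem_bot] at h5
  exact hr0 h5

/-- Closed points of the generic fibre specializing to a closed point. -/
theorem exists_point {R : Type u} [CommRing R] [IsDedekindDomain R]
    {X : Scheme.{u}} [IrreducibleSpace X] (f : X ⟶ Spec (CommRingCat.of R)) [LocallyOfFiniteType f]
    (hdom : DenseRange f.base) (x' : X) (hx' : IsClosed ({x'} : Set X)) :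
    ∃ x : X, (f.base x).asIdeal = ⊥ ∧ (∀ z : X, (f.base z).asIdeal = ⊥ → x ⤳ z → z = x) ∧ x ⤳ x' := by
  by_cases h0 : (f.base x').asIdeal = ⊥
  · exact ⟨x', h0, fun z _ hz => hz.mem_closed hx' rfl, specializes_rfl⟩
  obtain ⟨_, ⟨V, hV, rfl⟩, hxV, -⟩ :=
    X.isBasis_affineOpens.exists_subset_of_mem_open (Set.mem_univ x') isOpen_univ
  obtain ⟨φ, hφ⟩ := Spec.map_surjective (hV.fromSpec ≫ f)
  letI := φ.hom.toAlgebra
  haveI : Algebra.FiniteType R Γ(X, V) := by
    have h : LocallyOfFiniteType (Spec.map φ) := by rw [hφ]; infer_instance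
    exact (HasRingHomProperty.Spec_iff (P := @LocallyOfFiniteType)).1 h
  have hbase : ∀ w : Spec Γ(X, V), (f.base (hV.fromSpec w)).asIdeal = w.asIdeal.comap (algebraMap R Γ(X, V)) := by
    intro w
    show ((hV.fromSpec ≫ f) w).asIdeal = _
    rw [← hφ]
    rfl
  obtain ⟨w', hw'⟩ : x' ∈ Set.range hV.fromSpec := by rw [hV.range_fromSpec]; exact hxV
  haveI : w'.asIdeal.IsMaximal := by
    have he : ({w'} : Set (PrimeSpectrum Γ(X, V))) = hV.fromSpec ⁻¹' {x'} := Set.ext fun w => by
      simp only [Set.mem_singleton_iff, Set.mem_preimage, ← hw']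
      exact hV.fromSpec.isOpenEmbedding.injective.eq_iff.symm
    refine (PrimeSpectrum.isClosed_singleton_iff_isMaximal _).1 ?_
    exact (congrArg IsClosed he).mpr (hx'.preimage hV.fromSpec.continuous)
  obtain ⟨η, hη⟩ := QuasiSober.sober (IrreducibleSpace.isIrreducible_univ X) isClosed_univ
  have hηc : closure ({η} : Set X) = Set.univ := hη
  have hηbot : (f.base η).asIdeal = ⊥ := by
    have h1 : Set.range f.base ⊆ closure {f.base η} := by
      rintro _ ⟨z, rfl⟩
      have : z ∈ closure ({η} : Set X) := by rw [hηc]; trivial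
      have h3 := mem_closure_image f.base.hom.continuous.continuousAt this
      rwa [Set.image_singleton] at h3
    have h2 : (⟨⊥, Ideal.isPrime_bot⟩ : PrimeSpectrum R) ∈ closure {f.base η} :=
      (closure_minimal h1 isClosed_closure) (hdom _)
    exact eq_bot_iff.2 ((PrimeSpectrum.le_iff_specializes _ _).2 (specializes_iff_mem_closure.2 h2))
  have hηV : η ∈ V := (specializes_iff_mem_closure.2 (show x' ∈ closure ({η} : Set X) by rw [hηc]; trivial)).mem_open
    V.isOpen hxV
  obtain ⟨w₀, hw₀⟩ : η ∈ Set.range hV.fromSpec := by rw [hV.range_fromSpec]; exact hηV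
  have hle : w₀.asIdeal ≤ w'.asIdeal := by
    refine (PrimeSpectrum.le_iff_specializes _ _).2 (hV.fromSpec.isOpenEmbedding.isInducing.specializes_iff.1 ?_)
    show hV.fromSpec w₀ ⤳ hV.fromSpec w'
    rw [hw₀, hw']
    exact specializes_iff_mem_closure.2 (by rw [hηc]; trivial)
  obtain ⟨P, hPp, hPle, hPc, hmax⟩ := exists_prime w'.asIdeal (by rw [← hbase, hw']; exact h0)
    w₀.asIdeal hle (by rw [← hbase, hw₀]; exact hηbot)
  let w : Spec Γ(X, V) := ⟨P, hPp⟩
  let x := hV.fromSpec w
  have hx : (f.base x).asIdeal = ⊥ := (hbase w).trans hPc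
  refine ⟨x, hx, fun z hz hxz => ?_, ?_⟩
  · -- closed in the fibre
    let y := f.base x
    have hzy : f.base z = y := PrimeSpectrum.ext (hz.trans hx.symm)
    let fx : f.fiber y := (f.fiberHomeo y).symm ⟨x, rfl⟩
    let fz : f.fiber y := (f.fiberHomeo y).symm ⟨z, hzy⟩
    have hfx : f.fiberι y fx = x := f.fiberι_fiberHomeo_symm _ _
    have hclosed : IsClosed ({fx} : Set (f.fiber y)) := by
      refine isClosed_singleton_of_isLocallyClosed_singleton ⟨(f.fiberι y) ⁻¹' (V : Set X), closure {fx},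
        V.isOpen.preimage (f.fiberι y).continuous, isClosed_closure, ?_⟩
      refine Set.Subset.antisymm (Set.singleton_subset_iff.2 ⟨?_, subset_closure rfl⟩) ?_
      · show f.fiberι y fx ∈ V
        rw [hfx, ← SetLike.mem_coe, ← hV.range_fromSpec]
        exact ⟨w, rfl⟩
      · rintro a ⟨haV, ha⟩
        obtain ⟨v, hv⟩ : f.fiberι y a ∈ Set.range hV.fromSpec := by rw [hV.range_fromSpec]; exact haV
        have hav : f.base (f.fiberι y a) = y := by
          rw [← f.fiberHomeo_apply]; exact (f.fiberHomeo y a).2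
        have hPv : P ≤ v.asIdeal := by
          refine (PrimeSpectrum.le_iff_specializes w v).2 (hV.fromSpec.isOpenEmbedding.isInducing.specializes_iff.1 ?_)
          show x ⤳ hV.fromSpec v
          rw [hv, ← hfx]
          exact (specializes_iff_mem_closure.2 ha).map (f.fiberι y).continuous
        have hvP : v.asIdeal = P := hmax _ v.2 hPv (by rw [← hbase, hv, hav]; exact hx)
        refine (f.fiberι y).isEmbedding.injective ?_
        rw [hfx, ← hv]
        exact congrArg hV.fromSpec (PrimeSpectrum.ext hvP)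
    have hsp : fx ⤳ fz := by
      rw [← (f.fiberι y).isEmbedding.isInducing.specializes_iff]
      show f.fiberι y fx ⤳ f.fiberι y fz
      rw [hfx, f.fiberι_fiberHomeo_symm]
      exact hxz
    have := congrArg (f.fiberι y) (hsp.mem_closed hclosed rfl : fz = fx)
    rwa [hfx, f.fiberι_fiberHomeo_symm] at this
  · rw [← hw']
    exact ((PrimeSpectrum.le_iff_specializes w w').1 hPle).map hV.fromSpec.continuous

end Groth.Agent.GenFibrePoint
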